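import Mathlib.Data.List.Basic

/-!
Vectors of the 112 singular points of the minus form in six dimensions over three elements and
matrices of two isometries.
-/

set_option autoImplicit false

namespace CfsgLib.KnownA.U4ThreeSchur

/-- Ternary codes of the points. -/
def ptCodes : List ℕ := [27, 9, 36, 63, 3, 354, 597, 435, 678, 300, 543, 138, 219, 12,
  363, 606, 444, 687, 309, 552, 147, 228, 21, 372, 615, 453, 696, 318,
  561, 156, 237, 1, 28, 55, 334, 577, 415, 658, 361, 604, 442, 685,
  388, 631, 469, 712, 262, 505, 100, 181, 289, 532, 127, 208, 316, 559,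
  154, 235, 4, 355, 598, 436, 679, 301, 544, 139, 220, 337, 580, 418,
  661, 283, 526, 121, 202, 67, 265, 508, 103, 184, 49, 400, 643, 481,
  724, 7, 277, 520, 115, 196, 385, 628, 466, 709, 340, 583, 421, 664,
  43, 313, 556, 151, 232, 268, 511, 106, 187, 376, 619, 457, 700, 79]

/-- Rows of the first isometry. -/
def rowsA : List ℕ := [606, 611, 532, 265, 122, 315]

/-- Rows of the second isometry. -/
def rowsB : List ℕ := [356, 204, 679, 228, 667, 495]

end CfsgLib.KnownA.U4ThreeSchur
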