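import Cfsg.Agent.Lib.KnownA.PermCert
import Cfsg.Agent.Lib.KnownA.U4ThreeSchur.Group
import Cfsg.Agent.Lib.KnownA.U4ThreeSchur.Points
import Cfsg.Agent.Lib.Classical.OrthOmega
import Cfsg.Agent.Lib.Classical.ExcIsoMinusSix

/-!
`PSU₄(3)` as a group of permutations of the 112 singular points of the minus form in six dimensions over
three elements.
-/

set_option autoImplicit false
set_option maxRecDepth 100000
set_option Elab.async false

namespace CfsgLib.KnownA.U4ThreeSchur

open CfsgLib.KnownA.PermCert CfsgLib.Classical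
open Matrix (mulVec)

/-- The generators. -/
def gensG : List ℕ := [codeA, codeB]

/-- The permutation model. -/
noncomputable abbrev GP : Subgroup (Equiv.Perm (Fin 112)) := genGroup 112 gensG

/-- The first point. -/
abbrev p0 : Fin 112 := ⟨0, by norm_num⟩

/-- The codes needed in the group. -/
def needG : List ℕ := first ++ firstInv ++ gensH ++ pairs.flatMap fun p => [p.1, p.2.1, p.2.2.1, p.2.2.2]

/-- The codes are produced by a program from the generators. -/
def producedBy (gens : List ℕ) (ops : List (ℕ × ℕ × ℕ)) (need : List ℕ) : Bool :=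
  gens.all (valid 112) && match slpRun 112 ops gens with
    | none => false
    | some F => need.all fun c => F.any (Nat.beq c)

theorem mem_of_producedBy {gens : List ℕ} {ops : List (ℕ × ℕ × ℕ)} {need : List ℕ}
    (h : producedBy gens ops need = true) :
    ∀ c ∈ need, valid 112 c = true ∧ permOf 112 c ∈ genGroup 112 gens := by
  simp only [producedBy, Bool.and_eq_true, List.all_eq_true] at h
  obtain ⟨hv, h⟩ := h
  cases hF : slpRun 112 ops gens with
  | none => rw [hF] at h; exact absurd h (by simp)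
  | some F =>
    rw [hF] at h
    simp only [List.all_eq_true, List.any_eq_true] at h
    intro c hc
    obtain ⟨d, hd, e⟩ := h c hc
    rw [Nat.eq_of_beq_eq_true e]
    exact slpRun_sound _ (fun c hc => ⟨hv c hc, mem_genGroup hc⟩) hF d hd

theorem producedG : producedBy gensG opsG needG = true := by decide +kernel

theorem mem_needG {c : ℕ} (hc : c ∈ needG) : valid 112 c = true ∧ permOf 112 c ∈ GP :=
  mem_of_producedBy producedG c hc

theorem producedH : producedBy gensH opsH (chainH.flatMap Prod.snd) = true := by decide +kernel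

theorem chain_ok : chainOK 112 [] ((0, first) :: chainH) = true ∧ chainProd ((0, first) :: chainH) = 3265920 := by
  decide +kernel

theorem chainH_ok : chainOK 112 [0] chainH = true ∧ chainProd chainH = 29160 := by decide +kernel

theorem genH_le : genGroup 112 gensH ≤ GP :=
  genGroup_le fun c hc => (mem_needG (by simp [needG, hc])).2

theorem card_GP_ge : 3265920 ≤ Nat.card GP := by
  rw [← chain_ok.2]
  refine card_ge_chain GP chain_ok.1 (fun e he c hc => ?_) GP (by simp)
  rcases List.mem_cons.1 he with rfl | he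
  · exact (mem_needG (by simp [needG, hc])).2
  · exact genH_le (mem_of_producedBy producedH c (List.mem_flatMap.2 ⟨e, he, hc⟩)).2

theorem card_stab_ge {K : Subgroup (Equiv.Perm (Fin 112))} (h : genGroup 112 gensH ≤ K)
    (hfix : ∀ σ ∈ K, σ p0 = p0) : 29160 ≤ Nat.card K := by
  rw [← chainH_ok.2]
  refine card_ge_chain K chainH_ok.1 (fun e he c hc =>
    h (mem_of_producedBy producedH c (List.mem_flatMap.2 ⟨e, he, hc⟩)).2) K fun σ => ?_
  simp only [List.mem_singleton, forall_eq]
  exact ⟨fun hσ => ⟨hσ, fun _ => hfix σ hσ⟩, fun hσ => hσ.1⟩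

/-! The isometries. -/

/-- The coordinates. -/
abbrev I6 : Type := (Fin 2 ⊕ Fin 2) ⊕ Fin 2

/-- The number of a coordinate. -/
def ix : I6 → ℕ
  | .inl (.inl i) => i
  | .inl (.inr i) => 2 + i
  | .inr i => 4 + i

/-- The form. -/
abbrev Q6 : (I6 → ZMod 3) → ZMod 3 := Cfsg.quadFormMinus 2 (ZMod 3) 0 1

/-- The vector of a code. -/
def vecOf (c : ℕ) : I6 → ZMod 3 := fun x => ((c / 3 ^ ix x % 3 : ℕ) : ZMod 3)

/-- The code of a vector. -/
def codeOf (v : I6 → ZMod 3) : ℕ :=
  (v (.inl (.inl 0))).val + 3 * (v (.inl (.inl 1))).val + 9 * (v (.inl (.inr 0))).val +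
    27 * (v (.inl (.inr 1))).val + 81 * (v (.inr 0)).val + 243 * (v (.inr 1)).val

theorem codeOf_lt (v : I6 → ZMod 3) : codeOf v < 729 := by
  have := fun x => ZMod.val_lt (v x)
  have := this (.inl (.inl 0))
  have := ZMod.val_lt (v (.inl (.inl 1)))
  have := ZMod.val_lt (v (.inl (.inr 0)))
  have := ZMod.val_lt (v (.inl (.inr 1)))
  have := ZMod.val_lt (v (.inr 0))
  have := ZMod.val_lt (v (.inr 1))
  simp only [codeOf]
  omega

theorem vecOf_codeOf (v : I6 → ZMod 3) : vecOf (codeOf v) = v := by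
  funext x
  have := ZMod.val_lt (v (.inl (.inl 0)))
  have := ZMod.val_lt (v (.inl (.inl 1)))
  have := ZMod.val_lt (v (.inl (.inr 0)))
  have := ZMod.val_lt (v (.inl (.inr 1)))
  have := ZMod.val_lt (v (.inr 0))
  have := ZMod.val_lt (v (.inr 1))
  show ((codeOf v / 3 ^ ix x % 3 : ℕ) : ZMod 3) = v x
  rw [← ZMod.natCast_zmod_val (v x)]
  congr 1
  rcases x with (i | i) | i <;> fin_cases i <;> simp [ix, codeOf] <;> omega

/-- The vector of a point. -/
def ptVec (i : Fin 112) : I6 → ZMod 3 := vecOf (ptCodes.getD i 0)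

theorem pt_singular : ∀ i : Fin 112, Q6 (ptVec i) = 0 ∧ ptVec i ≠ 0 := by decide +kernel

theorem pt_inj : ∀ i j : Fin 112, (ptVec i = ptVec j ∨ ptVec i = -ptVec j) → i = j := by decide +kernel

/-- The code of the negated vector. -/
def negCode (c : ℕ) : ℕ :=
  2 * (c % 3) % 3 + 3 * (2 * (c / 3 % 3) % 3) + 9 * (2 * (c / 9 % 3) % 3) + 27 * (2 * (c / 27 % 3) % 3) +
    81 * (2 * (c / 81 % 3) % 3) + 243 * (2 * (c / 243 % 3) % 3)

theorem pt_all : ∀ c : Fin 729, (c : ℕ) = 0 ∨ Q6 (vecOf c) ≠ 0 ∨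
    ptCodes.any (fun d => Nat.beq d c || Nat.beq d (negCode c)) = true := by decide +kernel

theorem neg_code : ∀ c : Fin 729, vecOf (negCode c) = -vecOf c := by decide +kernel

theorem pt_length : ptCodes.length = 112 := by decide +kernel

theorem exists_pt {v : I6 → ZMod 3} (hv : v ≠ 0) (hQ : Q6 v = 0) : ∃ i, ptVec i = v ∨ ptVec i = -v := by
  have h := pt_all ⟨codeOf v, codeOf_lt v⟩
  have e := vecOf_codeOf v
  rcases h with h | h | h
  · exfalso
    apply hv
    rw [← e, show codeOf v = 0 from h]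
    funext x
    simp [vecOf]
  · exact absurd (by rw [e]; exact hQ) h
  · obtain ⟨d, hd, hd'⟩ := List.any_eq_true.1 h
    obtain ⟨i, hi, rfl⟩ := List.getElem_of_mem hd
    refine ⟨⟨i, pt_length ▸ hi⟩, ?_⟩
    have hg : ptVec ⟨i, pt_length ▸ hi⟩ = vecOf ptCodes[i] := by
      simp only [ptVec]; rw [List.getD_eq_getElem _ _ hi]
    rw [hg]
    rw [Bool.or_eq_true] at hd'
    rcases hd' with h' | h'
    · left; rw [Nat.eq_of_beq_eq_true h']; exact e
    · right; rw [Nat.eq_of_beq_eq_true h', neg_code ⟨codeOf v, codeOf_lt v⟩]; exact congrArg Neg.neg e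

/-- A matrix from the codes of its rows. -/
def matOf (rows : List ℕ) : Matrix I6 I6 (ZMod 3) :=
  Matrix.of fun i j => ((rows.getD (ix i) 0 / 3 ^ ix j % 3 : ℕ) : ZMod 3)

theorem matA_iso : ∀ c : Fin 729, Q6 (mulVec (matOf rowsA) (vecOf c)) = Q6 (vecOf c) := by decide +kernel

theorem matB_iso : ∀ c : Fin 729, Q6 (mulVec (matOf rowsB) (vecOf c)) = Q6 (vecOf c) := by decide +kernel

theorem matA_pow : matOf rowsA * matOf rowsA * matOf rowsA * (matOf rowsA * matOf rowsA * matOf rowsA) *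
    (matOf rowsA * matOf rowsA * matOf rowsA) = 1 := by decide +kernel

theorem matB_pow : matOf rowsB * matOf rowsB * matOf rowsB * matOf rowsB * matOf rowsB = 1 := by
  decide +kernel

theorem matA_pt : ∀ i : Fin 112, ptVec ⟨pimg codeA i % 112, Nat.mod_lt _ (by norm_num)⟩ = mulVec (matOf rowsA) (ptVec i) ∨
    ptVec ⟨pimg codeA i % 112, Nat.mod_lt _ (by norm_num)⟩ = -mulVec (matOf rowsA) (ptVec i) := by
  decide +kernel

theorem matB_pt : ∀ i : Fin 112, ptVec ⟨pimg codeB i % 112, Nat.mod_lt _ (by norm_num)⟩ = mulVec (matOf rowsB) (ptVec i) ∨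
    ptVec ⟨pimg codeB i % 112, Nat.mod_lt _ (by norm_num)⟩ = -mulVec (matOf rowsB) (ptVec i) := by
  decide +kernel

theorem valid_gens : valid 112 codeA = true ∧ valid 112 codeB = true := by decide +kernel

/-- The isometry group. -/
abbrev O6 : Subgroup (Matrix.GeneralLinearGroup I6 (ZMod 3)) := Cfsg.isometryGroup (ZMod 3) Q6

/-- The matrix of an isometry. -/
abbrev mat (g : O6) : Matrix I6 I6 (ZMod 3) := ((g : Matrix.GeneralLinearGroup I6 (ZMod 3)) : Matrix I6 I6 (ZMod 3))

theorem mulVec_ne (g : O6) {v : I6 → ZMod 3} (hv : v ≠ 0) : mulVec (mat g) v ≠ 0 := fun h => hv (by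
  have h' := congrArg (mulVec (mat g⁻¹)) h
  rw [Matrix.mulVec_mulVec, Matrix.mulVec_zero, show mat g⁻¹ * mat g = 1 by
    rw [← Units.val_mul, ← Subgroup.coe_mul, inv_mul_cancel]; rfl, Matrix.one_mulVec] at h'
  exact h')

theorem exists_img (g : O6) (i : Fin 112) :
    ∃ j, ptVec j = mulVec (mat g) (ptVec i) ∨ ptVec j = -mulVec (mat g) (ptVec i) :=
  exists_pt (mulVec_ne g (pt_singular i).2) ((g.2 (ptVec i) (ptVec i)).trans (pt_singular i).1)

/-- The image of a point. -/
noncomputable def img (g : O6) (i : Fin 112) : Fin 112 := (exists_img g i).choose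

theorem img_eq {g : O6} {i j : Fin 112}
    (h : ptVec j = mulVec (mat g) (ptVec i) ∨ ptVec j = -mulVec (mat g) (ptVec i)) : img g i = j := by
  refine pt_inj _ _ ?_
  rcases (exists_img g i).choose_spec with e | e <;> rcases h with h | h <;>
    simp [img, e, h]

theorem img_one (i : Fin 112) : img 1 i = i := img_eq (Or.inl (by simp [mat]))

theorem img_mul (g h : O6) (i : Fin 112) : img (g * h) i = img g (img h i) := by
  refine img_eq ?_
  have hm : mat (g * h) = mat g * mat h := rfl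
  rw [hm, ← Matrix.mulVec_mulVec]
  rcases (exists_img g (img h i)).choose_spec with e | e <;>
    rcases (exists_img h i).choose_spec with e' | e'
  · left; show ptVec (img g (img h i)) = _; rw [img, e, img, e']
  · right; show ptVec (img g (img h i)) = _; rw [img, e, img, e', Matrix.mulVec_neg]
  · right; show ptVec (img g (img h i)) = _; rw [img, e, img, e']
  · left; show ptVec (img g (img h i)) = _; rw [img, e, img, e', Matrix.mulVec_neg, neg_neg]

/-- The action on the points. -/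
noncomputable def toPerm : O6 →* Equiv.Perm (Fin 112) :=
  MonoidHom.mk' (fun g =>
    { toFun := img g
      invFun := img g⁻¹
      left_inv := fun i => by rw [← img_mul, inv_mul_cancel, img_one]
      right_inv := fun i => by rw [← img_mul, mul_inv_cancel, img_one] })
    fun g h => Equiv.ext fun i => img_mul g h i

theorem quad6 : ⇑(qfMinus 2 (ZMod 3) 0 1) = Q6 := qfMinus_coe 2 0 1

theorem aniso : ∀ z₁ z₂ : ZMod 3, z₁ ^ 2 + 0 * z₁ * z₂ + 1 * z₂ ^ 2 = 0 → z₁ = 0 ∧ z₂ = 0 := by decide +kernel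

theorem omega_index : (Cfsg.Omega (ZMod 3) Q6).index = 4 := by
  rw [← quad6]
  exact CfsgLib.Geom.omega_index_odd _ (qfMinus_sep 2 aniso) (by decide) (by simp)

/-- An isometry with inverse a power of itself. -/
theorem exists_iso (M : Matrix I6 I6 (ZMod 3)) (k : ℕ) (hk : M ^ (k + 1) = 1)
    (hM : ∀ c : Fin 729, Q6 (mulVec M (vecOf c)) = Q6 (vecOf c)) :
    ∃ g : O6, mat g = M ∧ g ^ (k + 1) = 1 := by
  refine ⟨⟨⟨M, M ^ k, by rw [← pow_succ']; exact hk, by rw [← pow_succ]; exact hk⟩, fun u v => ?_⟩, rfl, ?_⟩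
  · show Q6 (mulVec M u) = Q6 u
    have := hM ⟨codeOf u, codeOf_lt u⟩
    rwa [vecOf_codeOf] at this
  · refine Subtype.ext (Units.ext ?_)
    simpa using hk

/-- An element of `Ω` acting as a code. -/
theorem code_mem (c : ℕ) (hc : valid 112 c = true) (M : Matrix I6 I6 (ZMod 3)) (k : ℕ)
    (hodd : ∃ m, (4 * m) % (k + 1) = 1 % (k + 1)) (hk : M ^ (k + 1) = 1)
    (hM : ∀ c : Fin 729, Q6 (mulVec M (vecOf c)) = Q6 (vecOf c))
    (hpt : ∀ i : Fin 112, ptVec ⟨pimg c i % 112, Nat.mod_lt _ (by norm_num)⟩ = mulVec M (ptVec i) ∨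
      ptVec ⟨pimg c i % 112, Nat.mod_lt _ (by norm_num)⟩ = -mulVec M (ptVec i)) :
    ∃ g : Cfsg.Omega (ZMod 3) Q6, toPerm g = permOf 112 c := by
  obtain ⟨g, rfl, hg⟩ := exists_iso M k hk hM
  obtain ⟨m, hm⟩ := hodd
  have h4 : g ^ 4 ∈ Cfsg.Omega (ZMod 3) Q6 := by
    rw [← omega_index]; exact Subgroup.pow_index_mem _ g
  have e : g = (g ^ 4) ^ m := by
    rw [← pow_mul]
    conv_lhs => rw [← pow_one g]
    rw [pow_eq_pow_iff_modEq]
    exact (Nat.ModEq.of_dvd (orderOf_dvd_of_pow_eq_one hg) hm).symm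
  refine ⟨⟨g, e ▸ pow_mem h4 m⟩, Equiv.ext fun i => ?_⟩
  refine (img_eq (hpt i)).trans (Fin.ext ?_)
  rw [permOf_val hc]
  exact Nat.mod_eq_of_lt (valid_lt hc i.2)

/-- The action of `Ω`. -/
noncomputable def omegaPerm : Cfsg.Omega (ZMod 3) Q6 →* Equiv.Perm (Fin 112) :=
  toPerm.comp (Cfsg.Omega (ZMod 3) Q6).subtype

theorem center_le_ker : Subgroup.center (Cfsg.Omega (ZMod 3) Q6) ≤ omegaPerm.ker := by
  intro z hz
  have h : mat z.1 = 1 ∨ mat z.1 = -1 := by
    have key : ∀ (Q : (I6 → ZMod 3) → ZMod 3), Q = ⇑(qfMinus 2 (ZMod 3) 0 1) →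
        ∀ z ∈ Subgroup.center (Cfsg.Omega (ZMod 3) Q),
          ((z.1 : Matrix.GeneralLinearGroup I6 (ZMod 3)) : Matrix I6 I6 (ZMod 3)) = 1 ∨
          ((z.1 : Matrix.GeneralLinearGroup I6 (ZMod 3)) : Matrix I6 I6 (ZMod 3)) = -1 := by
      rintro Q rfl z hz
      exact (mem_center_omega_iff _ (qfMinus_sep 2 aniso) (by simp) z).1 hz
    exact key Q6 quad6.symm z hz
  refine MonoidHom.mem_ker.2 (Equiv.ext fun i => ?_)
  show img z.1 i = i
  refine img_eq ?_
  rcases h with h | h <;> simp [h, Matrix.neg_mulVec]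

theorem GP_le_range : GP ≤ omegaPerm.range := by
  refine genGroup_le fun c hc => ?_
  simp only [gensG, List.mem_cons, List.not_mem_nil, or_false] at hc
  rcases hc with rfl | rfl
  · obtain ⟨g, hg⟩ := code_mem codeA valid_gens.1 (matOf rowsA) 8 ⟨7, rfl⟩
      (by simp only [pow_succ, pow_zero, one_mul]; simpa only [Matrix.mul_assoc] using matA_pow) matA_iso matA_pt
    exact ⟨g, hg⟩
  · obtain ⟨g, hg⟩ := code_mem codeB valid_gens.2 (matOf rowsB) 4 ⟨4, rfl⟩
      (by simp only [pow_succ, pow_zero, one_mul]; exact matB_pow) matB_iso matB_pt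
    exact ⟨g, hg⟩

universe u

variable {F : Type u} [Field F] [Fintype F]

theorem card_psu (hF : Fintype.card F = 9) : Nat.card (Cfsg.PSU 4 F 3) = 3265920 := by
  have hF' : Fintype.card F = 3 ^ 2 := by rw [hF]; norm_num
  have h := card_psu_mul hF' (n := 4) (by norm_num)
  rw [card_gu hF'] at h
  simp [Finset.prod_range_succ, Nat.even_iff] at h
  omega

/-- The permutation group is `PSU₄(3)`. -/
theorem exists_equiv (hF : Fintype.card F = 9) : Nonempty (GP ≃* Cfsg.PSU 4 F 3) := by
  have hF' : Fintype.card F = 3 ^ 2 := by rw [hF]; norm_num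
  obtain ⟨e⟩ := pOmega_minus_six (F := ZMod 3) (K := F) (q := 3) (ZMod.card 3) hF' 0 1 aniso
  let f : Cfsg.POmega (ZMod 3) Q6 →* Equiv.Perm (Fin 112) :=
    QuotientGroup.lift _ omegaPerm center_le_ker
  have hr : omegaPerm.range ≤ f.range := by
    rintro _ ⟨g, rfl⟩
    exact ⟨QuotientGroup.mk g, rfl⟩
  have : Finite (Cfsg.PSU 4 F 3) := Nat.finite_of_card_ne_zero (by rw [card_psu hF]; norm_num)
  have : Finite (Cfsg.POmega (ZMod 3) Q6) := Finite.of_equiv _ e.symm.toEquiv
  have hc : Nat.card (Cfsg.POmega (ZMod 3) Q6) = 3265920 := by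
    rw [Nat.card_congr e.toEquiv, card_psu hF]
  have h1 : Nat.card f.range ≤ 3265920 := hc ▸ Nat.card_le_card_of_surjective f.rangeRestrict f.rangeRestrict_surjective
  have heq : GP = f.range := Subgroup.eq_of_le_of_card_ge (GP_le_range.trans hr) (h1.trans card_GP_ge)
  have hinj : Function.Injective f := by
    have hb := (Nat.bijective_iff_surjective_and_card f.rangeRestrict).2
      ⟨f.rangeRestrict_surjective, le_antisymm (hc ▸ card_GP_ge.trans (heq ▸ le_rfl)) (hc ▸ h1)⟩
    exact fun a b h => hb.1 (Subtype.ext h)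
  exact ⟨((MulEquiv.subgroupCongr heq).trans (MonoidHom.ofInjective hinj).symm).trans e⟩

theorem card_GP : Nat.card GP = 3265920 := by
  have : Fact (Nat.Prime 3) := ⟨Nat.prime_three⟩
  let _ : Fintype (GaloisField 3 2) := Fintype.ofFinite _
  have h0 : Fintype.card (GaloisField 3 2) = 9 := by
    rw [← Nat.card_eq_fintype_card, GaloisField.card 3 2 (by norm_num)]
    norm_num
  obtain ⟨e⟩ := exists_equiv h0
  rw [Nat.card_congr e.toEquiv, card_psu h0]

end CfsgLib.KnownA.U4ThreeSchur
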